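import Cfsg.Agent.Mrg.Omega.NO3S.ActT.TL
import Cfsg.Agent.Mrg.Omega.NOThreeL.Low.PmNat
import Cfsg.Agent.Mrg.Omega.Half.Basic
import Cfsg.Agent.Mrg.Omega.NOThreeL.Low.PmSym

section


/-!
# THEOREM ACT (#20049, helper365): the interface `TL` for natural modules
-/

set_option autoImplicit false
set_option linter.unusedSectionVars false

namespace Cfsg.Agent.Omega.NO3S.ActT

open Subgroup Cfsg Cfsg.Agent.ZN Cfsg.Agent.ZN.ChoiceBase
open Cfsg.Agent.Omega.MinPar
open Cfsg.Agent.Omega.FFThm (NatK NatKM ActsSL)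
open Cfsg.Agent.Omega.Half (Amb)
open Cfsg.Agent.Omega.Half.NatA (fac Mv Mv.unique)
open Cfsg.Agent.Omega.NOThreeL.NF.NatR
open Cfsg.Agent.Omega.NO1.NSix (em em_mem e_em_self e_em_ne em_eq em_fac em_add mem_of_em ph e_conj ph_add)
open Cfsg.Agent.Omega.NatPair (ap ap_zero' ap_one' ext2 ap_inv_ap)
open Cfsg.Agent.Omega.NOne.NearFF (c c_def)
open Cfsg.Agent.Lib.SL2Mat
open scoped commutatorElement

universe u

variable {G : Type u} [Group G] {F : Type} [Field F] {S P W : Subgroup G} {k : ℕ} {M : NatKM F S P W ⊥ k}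

theorem decomp (x : Fin 2 → F) : x = x 0 • ![1, 0] + x 1 • ![0, 1] := by
  apply ext2 <;> simp

/-- an element of `S` which centralises all lines acts on every summand as an upper unitriangular matrix -/
theorem exists_up [Finite F] [CharP F 2] (hA : Amb S P W) (hS : IsPGroup 2 S) {t : G} (ht : t ∈ S)
    (hc : ∀ j, ∀ y ∈ ln M {j}, t * y = y * t) (j : Fin k) :
    ∃ a : F, ∀ v ∈ W, M.e (t * v * t⁻¹) j = ![M.e v j 0 + a * M.e v j 1, M.e v j 1] := by
  have htP : t ∈ P := hA.TH ht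
  have hcv : ∀ g ∈ P, ∀ v ∈ W, g * v * g⁻¹ ∈ W := fun g hg v hv => hA.conj_mem hg hv
  have hfix : ∀ i, ∀ y ∈ ln M {i}, t * y * t⁻¹ = y := fun i y hy => by
    rw [hc i y hy, mul_inv_cancel_right]
  obtain ⟨σ, hσ⟩ := M.perm t htP
  have hj : σ j = j := by
    by_contra hne
    obtain ⟨y, hy, hy0⟩ := exists_ln (M := M) j 1
    have h1 := (hσ y hy.1 j).1
    rw [hfix j y hy] at h1
    have h2 := h1 (hy.2.2 _ hne)
    rw [h2] at hy0
    exact zero_ne_one hy0
  obtain ⟨τ, hτ⟩ := NO1.NSix.exists_semi hA (M := M.toNatK) htP (show Mv M.toNatK t σ from hσ) j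
  rw [hj] at hτ
  have hph : ∀ v ∈ W, M.e (t * v * t⁻¹) j = ph M.toNatK t j j (M.e v j) := by
    intro v hv
    have h1 := e_conj hA (M := M.toNatK) htP (show Mv M.toNatK t σ from hσ) hv j
    rwa [hj] at h1
  -- the line
  have hl : ∀ x : F, ph M.toNatK t j j ![x, 0] = ![x, 0] := by
    intro x
    have h1 := em_mem M.toNatK j ![x, 0]
    have h2 : em M.toNatK j ![x, 0] ∈ ln M {j} := by
      refine ⟨h1, fun l => ?_, fun l hl => e_em_ne M.toNatK hl _⟩
      by_cases hl : l = j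
      · subst hl
        have h3 := e_em_self M.toNatK l ![x, 0]
        exact (congrFun h3 1).trans rfl
      · have h3 := e_em_ne M.toNatK hl ![x, 0]
        exact (congrFun h3 1).trans rfl
    have h3 := hph _ h1
    rw [hfix j _ h2] at h3
    have h4 := e_em_self M.toNatK j ![x, 0]
    rw [h4] at h3
    exact h3.symm
  have hτ1 : ∀ x : F, τ x = x := by
    intro x
    have h1 := hτ x ![1, 0]
    have h2 : x • (![1, 0] : Fin 2 → F) = ![x, 0] := by apply ext2 <;> simp
    rw [h2, hl, hl] at h1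
    have h3 := congrFun h1 0
    simp at h3
    exact h3.symm
  set a := ph M.toNatK t j j ![0, 1] 0 with ha
  set μ := ph M.toNatK t j j ![0, 1] 1 with hμ
  have hmat : ∀ x : Fin 2 → F, ph M.toNatK t j j x = ![x 0 + a * x 1, μ * x 1] := by
    intro x
    conv_lhs => rw [decomp x]
    rw [ph_add hA htP, hτ, hτ, hτ1, hτ1, hl]
    refine ext2 ?_ ?_
    · simp only [Pi.add_apply, Pi.smul_apply, Matrix.cons_val_zero, smul_eq_mul, mul_one]
      rw [← ha, mul_comm (x 1)]
    · simp only [Pi.add_apply, Pi.smul_apply, Matrix.cons_val_one, Matrix.cons_val_zero, smul_eq_mul, mul_zero,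
        zero_add]
      rw [← hμ, mul_comm (x 1)]
  have hlam : ∀ v ∈ W, M.e (t * v * t⁻¹) j 1 = μ * M.e v j 1 := by
    intro v hv
    rw [hph v hv, hmat]
    rfl
  have hpow : ∀ n : ℕ, ∀ v ∈ W, M.e (t ^ n * v * (t ^ n)⁻¹) j 1 = μ ^ n * M.e v j 1 := by
    intro n
    induction n with
    | zero => intro v _; simp
    | succ n ih =>
      intro v hv
      have h1 := hlam _ (hcv (t ^ n) (P.pow_mem htP n) v hv)
      have e1 : t * (t ^ n * v * (t ^ n)⁻¹) * t⁻¹ = t ^ (n + 1) * v * (t ^ (n + 1))⁻¹ := by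
        rw [pow_succ' t n]; group
      rw [e1, ih v hv] at h1
      rw [h1, pow_succ', mul_assoc]
  obtain ⟨n, hn⟩ := hS ⟨t, ht⟩
  have hn' : t ^ (2 ^ n) = 1 := congrArg Subtype.val hn
  obtain ⟨u, hu, hue, -⟩ := exists_pt (M := M) j ![0, 1]
  have h1 := hpow (2 ^ n) u hu
  rw [hn', one_mul, inv_one, mul_one, hue] at h1
  have h2 : μ ^ 2 ^ n = 1 := by simpa using h1.symm
  have hμ1 : μ = 1 := by
    have h3 : (μ - 1) ^ 2 ^ n = 0 := by
      rw [sub_pow_char_pow, h2, one_pow, sub_self]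
    exact sub_eq_zero.1 (pow_eq_zero_iff (pow_ne_zero n two_ne_zero) |>.1 h3)
  refine ⟨a, fun v hv => ?_⟩
  rw [hph v hv, hmat, hμ1, one_mul]

/-- the commutator with such an element -/
theorem e_c (hA : Amb S P W) {t : G} (ht : t ∈ S) {a : F} {j : Fin k}
    (h : ∀ v ∈ W, M.e (t * v * t⁻¹) j = ![M.e v j 0 + a * M.e v j 1, M.e v j 1]) {v : G} (hv : v ∈ W) :
    M.e (c v t) j = ![- (a * M.e v j 1), 0] := by
  have e1 : c v t = v * (t * v⁻¹ * t⁻¹) := by rw [c_def]; group
  rw [e1, M.mul v hv _ (hA.conj_mem (hA.TH ht) (inv_mem hv)), Pi.add_apply, h _ (inv_mem hv), e_inv hv]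
  refine ext2 ?_ ?_
  · simp only [Pi.add_apply, Pi.neg_apply, Matrix.cons_val_zero]
    ring
  · simp

/-- `em i (0, x)` and the Weyl element of the `i`-th summand -/
theorem mem_cj_wm (hPW : P ≤ normalizer (W : Set G)) {w : G} (hw : w ∈ P) {i : Fin k}
    (hac : Ac M w (Pi.mulSingle i (wm 1 one_ne_zero))) (x : F) :
    em M.toNatK i ![0, x] ∈ cj w⁻¹ (ln M {i}) := by
  have h1 := em_mem M.toNatK i ![0, x]
  rw [mem_cj, inv_inv]
  refine ⟨cmem hPW hw h1, fun l => ?_, fun l hl => ?_⟩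
  · rw [hac _ h1 l]
    by_cases hl : l = i
    · subst hl
      have h3 := e_em_self M.toNatK l ![0, x]
      rw [Pi.mulSingle_eq_same, h3, ap_one', wm_10, wm_11]
      simp
    · have h3 := e_em_ne M.toNatK hl ![0, x]
      rw [Pi.mulSingle_eq_of_ne hl, h3, Omega.Half.ap_zero]
      rfl
  · have hl' : l ≠ i := hl
    have h3 := e_em_ne M.toNatK hl' ![0, x]
    rw [hac _ h1 l, h3, Omega.Half.ap_zero]

/-- **`TL` for natural modules** -/
theorem tl_nat [Finite G] [Finite F] [CharP F 2] {S P A : Subgroup G} {k : ℕ} (M : NatKM F S P (zl S P) ⊥ k)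
    (hA : Amb S P (zl S P)) (hS : IsPGroup 2 S) (hP : IsParS S P)
    (hmin : NOThreeL.NF.MinOffM (zl S P) S A) : TL S P A := by
  have hPW := hA.HV
  have hSP := hA.TH
  obtain ⟨i, hr⟩ := Rt.of (M := M) hPW hSP hmin
  have hpts := pts_eq (M := M) hPW hSP hr
  have hmemp : ∀ j, ln M {j} ∈ NOThreeL.NF.pts (zl S P) S A := fun j => by
    rw [hpts]; exact ⟨j, Set.mem_univ _, rfl⟩
  have hcp : ∀ t, CP S P A t → ∀ j, ∀ y ∈ ln M {j}, t * y = y * t := fun t ht j => ht _ (hmemp j)
  have hcW : ∀ t ∈ S, ∀ v ∈ zl S P, c v t ∈ zl S P := by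
    intro t ht v hv
    have e1 : c v t = v * (t * v⁻¹ * t⁻¹) := by rw [c_def]; group
    rw [e1]
    exact mul_mem hv (hA.conj_mem (hSP ht) (inv_mem hv))
  have htri : ∀ t ∈ S, CP S P A t → ∀ j, ∀ v ∈ fac M.toNatK {j}, c v t ∈ ln M {j} := by
    intro t ht htc j v hv
    refine ⟨hcW t ht v hv.1, fun l => ?_, fun l hl => ?_⟩
    · obtain ⟨a, ha⟩ := exists_up hA hS ht (hcp t htc) l
      rw [e_c hA ht ha hv.1]; rfl
    · obtain ⟨a, ha⟩ := exists_up hA hS ht (hcp t htc) l
      have h0 : M.e v l = 0 := hv.2 l hl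
      rw [e_c hA ht ha hv.1, h0]
      exact ext2 (by simp) (by simp)
  refine ⟨⟨Fin k, fun j => ln M {j}, fun j => fac M.toNatK {j}, hmemp, fun j => Omega.Half.NatA.fac_le _ _,
    ?_, htri, ?_⟩, ?_⟩
  · intro v hv
    exact mem_of_em M.toNatK hv fun j => (le_iSup (fun j => fac M.toNatK {j}) j) (em_fac M.toNatK j _)
  · intro t ht htc j v hv hne y hy
    obtain ⟨a, ha⟩ := exists_up hA hS ht (hcp t htc) j
    have ha0 : a ≠ 0 := by
      rintro rfl
      apply hne
      refine e_inj (M := M) (hcW t ht v hv.1) (one_mem _) ?_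
      rw [e_one]
      funext l
      by_cases hl : l = j
      · subst hl
        rw [e_c hA ht ha hv.1]
        exact ext2 (by simp) (by simp)
      · exact (htri t ht htc j v hv).2.2 l hl
    refine ⟨em M.toNatK j ![0, -(M.e y j 0 / a)], em_fac _ _ _, ?_⟩
    refine ln_ext (M := M) (htri t ht htc j _ (em_fac _ _ _)) hy ?_
    rw [e_c hA ht ha (em_mem M.toNatK _ _)]
    have h3 := e_em_self M.toNatK j ![0, -(M.e y j 0 / a)]
    rw [h3]
    simp only [Matrix.cons_val_zero, Matrix.cons_val_one]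
    field_simp
  · obtain ⟨w, hw, hac⟩ := lift_ac (M := M) (Pi.mulSingle i (wm 1 one_ne_zero))
    refine ⟨w⁻¹, inv_mem hw, ?_, ?_, ?_⟩
    · -- `P = ⟨S, A^w⟩`
      obtain ⟨a, ha, haa⟩ := hr.ex (-1)
      have haP : a ∈ P := hSP (hr.le ha)
      have h1 := Ac.mul hPW (inv_mem hw) (Ac.mul hPW haP hac haa) (hac.inv hPW hw)
      have e1 : (Pi.mulSingle i (wm 1 one_ne_zero) : Fin k → Matrix.SpecialLinearGroup (Fin 2) F) *
          Pi.mulSingle i (up (-1)) * (Pi.mulSingle i (wm 1 one_ne_zero))⁻¹ = Pi.mulSingle i (lo 1) := by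
        rw [← Pi.mulSingle_mul, ← Pi.mulSingle_inv, ← Pi.mulSingle_mul, wm_up, mul_inv_cancel_right]
        congr 2
        ring
      rw [e1] at h1
      have h2 : w * a * w⁻¹ ∈ S ⊔ cj w A := by
        refine (le_sup_right : cj w A ≤ _) ?_
        rw [mem_cj]
        have e2 : w⁻¹ * (w * a * w⁻¹) * w = a := by group
        rwa [e2]
      have h3 : cj w A ≤ P := by
        rintro _ ⟨b, hb, rfl⟩
        exact mul_mem (mul_mem hw (hSP (hr.le hb))) (inv_mem hw)
      have h4 := NOThreeL.Low.le_of_lo M hP le_sup_left (sup_le hSP h3) h2 h1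
      have h5 : cj w⁻¹ P = P := cj_eq_of_mem_normalizer (le_normalizer (inv_mem hw))
      have h6 := cj_mono w⁻¹ h4
      have h7 : cj w⁻¹ (S ⊔ cj w A) = cj w⁻¹ S ⊔ cj w⁻¹ (cj w A) := map_sup _ _ _
      rw [h5, h7, cj_inv_cj] at h6
      exact h6
    · intro r hrr hnc
      rw [hpts] at hrr
      obtain ⟨j, -, rfl⟩ := hrr
      have hji : j = i := by
        by_contra hne
        apply hnc
        rintro _ ⟨v, hv, rfl⟩
        change w⁻¹ * v * w⁻¹⁻¹ ∈ _
        have h1 : w⁻¹ * v * w⁻¹⁻¹ = v := by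
          refine e_inj (M := M) (cmem hPW (inv_mem hw) hv.1) hv.1 ?_
          funext l
          have h2 := hac.inv hPW hw v hv.1 l
          rw [h2, ← Pi.mulSingle_inv]
          by_cases hl : l = i
          · subst hl
            rw [hv.2.2 l (fun h3 => hne h3.symm), Omega.Half.ap_zero]
          · rw [Pi.mulSingle_eq_of_ne hl, NatPair.ap_one]
        rw [h1]
        exact hr.fix hPW hSP hv.1 (hv.2.1 i)
      subst hji
      set D : Subgroup G := ⨆ s : S, cj (s : G) (cj w⁻¹ (ln M {j}) ⊔ ⁅zl S P, A⁆) with hD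
      have hfac : ∀ x : Fin 2 → F, em M.toNatK j x ∈ cj w⁻¹ (ln M {j}) ⊔ ⁅zl S P, A⁆ := by
        intro x
        have e1 : x = ![x 0, 0] + ![0, x 1] := by apply ext2 <;> simp
        rw [e1, em_add]
        refine mul_mem ((le_sup_right : ⁅zl S P, A⁆ ≤ _) ?_) ((le_sup_left : cj w⁻¹ (ln M {j}) ≤ _) ?_)
        · rw [hr.comm_eq hPW hSP]
          refine ⟨em_mem _ _ _, fun l => ?_, fun l hl => e_em_ne M.toNatK hl _⟩
          by_cases hl : l = j
          · subst hl
            have h3 := e_em_self M.toNatK l ![x 0, 0]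
            exact (congrFun h3 1).trans rfl
          · have h3 := e_em_ne M.toNatK hl ![x 0, 0]
            exact (congrFun h3 1).trans rfl
        · exact mem_cj_wm hPW hw hac _
      intro v hv
      refine mem_of_em M.toNatK hv fun l => ?_
      obtain ⟨t, ht, htr⟩ := M.trans j l
      obtain ⟨σ, hσ⟩ := M.perm t (hSP ht)
      have hjl : σ j = l := Mv.unique M.toNatK hA (show Mv M.toNatK t σ from hσ) (hSP ht) htr
      set u := em M.toNatK l (M.e v l) with hu
      have huW : u ∈ zl S P := em_mem _ _ _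
      have hu' : t⁻¹ * u * t⁻¹⁻¹ ∈ zl S P := hA.conj_mem (inv_mem (hSP ht)) huW
      have e1 : t * (t⁻¹ * u * t⁻¹⁻¹) * t⁻¹ = u := by group
      have h1 : t⁻¹ * u * t⁻¹⁻¹ = em M.toNatK j (M.e (t⁻¹ * u * t⁻¹⁻¹) j) := by
        refine (em_eq M.toNatK hu' fun l' hl' => ?_).symm
        refine (hσ _ hu' l').1 ?_
        rw [e1]
        refine e_em_ne M.toNatK ?_ _
        intro h2
        exact hl' (σ.injective (h2.trans hjl.symm))
      have h2 : cj t (cj w⁻¹ (ln M {j}) ⊔ ⁅zl S P, A⁆) ≤ D :=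
        le_iSup (fun s : S => cj (s : G) (cj w⁻¹ (ln M {j}) ⊔ ⁅zl S P, A⁆)) ⟨t, ht⟩
      apply h2
      rw [mem_cj]
      have e2 : t⁻¹ * u * t = t⁻¹ * u * t⁻¹⁻¹ := by rw [inv_inv]
      rw [e2, h1]
      exact hfac _
    · intro x hx hxc hxr
      have hx1 : ∀ l, M.e x l 1 = 0 := by
        intro l
        obtain ⟨t, ht, hrt⟩ := exists_rt (M := M) hPW hSP hmin hr l
        refine hrt.zero_of_cent hx ?_
        rw [mem_centralizer_iff]
        intro y hy
        exact mem_centralizer_singleton_iff.1 (hxc t ht hy)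
      rw [hr.comm_eq hPW hSP] at hxr
      set y := w⁻¹ * x * w⁻¹⁻¹ with hy
      have hxy : w * y * w⁻¹ = x := by rw [hy]; group
      have h1 : ∀ l, M.e x l = ap ((Pi.mulSingle i (wm 1 one_ne_zero) :
          Fin k → Matrix.SpecialLinearGroup (Fin 2) F) l) (M.e y l) := by
        intro l
        have h2 := hac y hxr.1 l
        rwa [hxy] at h2
      refine e_inj (M := M) hx (one_mem _) ?_
      rw [e_one]
      funext l
      by_cases hl : l = i
      · subst hl
        have h2 := h1 l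
        rw [Pi.mulSingle_eq_same] at h2
        have h3 := hx1 l
        rw [h2, ap_one', wm_10, wm_11, hxr.2.1 l] at h3
        have h4 : M.e y l 0 = 0 := by simpa using h3
        have h5 : M.e y l = 0 := ext2 h4 (hxr.2.1 l)
        rw [h2, h5, Omega.Half.ap_zero]
        rfl
      · rw [h1 l, hxr.2.2 l hl, Omega.Half.ap_zero]
        rfl

end Cfsg.Agent.Omega.NO3S.ActT

end

section


/-!
# THEOREM ACT (#20049, helper365): the interface `TL` for even-subset modules
-/

set_option autoImplicit false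
set_option linter.unusedSectionVars false

namespace Cfsg.Agent.Omega.NO3S.ActT

open Subgroup Cfsg Cfsg.Agent.ZN Cfsg.Agent.ZN.ChoiceBase
open Cfsg.Agent.Omega.MinPar
open Cfsg.Agent.Omega.FFThm (ElemM OffM NoOverM ConclM SymK SymKM ActsSym)
open Cfsg.Agent.Omega.Half (Amb)
open Cfsg.Agent.Omega.Half.SymA
open Cfsg.Agent.Omega.NOThreeL.NF.SymRP
open Cfsg.Agent.Omega.NOThreeL.FourLine (mem_zpowers_iff)
open Cfsg.Agent.Omega.NOne.NearFF (c c_def)
open scoped Classical commutatorElement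

universe u

variable {G : Type u} [Group G] [Finite G] {S : Sylow 2 G} {P V : Subgroup G} {k m : ℕ}

/-- a vector is the product of pairs `{0, p}` -/
theorem mem_of_pairs (M : SymK (S : Subgroup G) P V ⊥ k m) {D : Subgroup G} {v : G} (hv : v ∈ V)
    (hD : ∀ p : Pt k m, p.2 ≠ 0 → ∀ d, IsC M d (p.1, 0) p → d ∈ D) : v ∈ D := by
  obtain ⟨n, hn⟩ : ∃ n, (Finset.univ.filter fun p : Pt k m => p.2 ≠ 0 ∧ E M v p ≠ 0).card = n := ⟨_, rfl⟩
  induction n using Nat.strong_induction_on generalizing v with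
  | _ n ih =>
    by_cases h0 : ∀ p : Pt k m, p.2 ≠ 0 → E M v p = 0
    · have h1 : v = 1 := by
        refine eq_one M hv fun p => ?_
        by_cases hp : p.2 = 0
        · have h2 := even M hv p.1
          rw [Fin.sum_univ_succ] at h2
          have h3 : ∑ x : Fin (2 ^ m), E M v (p.1, x.succ) = 0 :=
            Finset.sum_eq_zero fun x _ => h0 _ (Fin.succ_ne_zero x)
          rw [h3, add_zero] at h2
          have h5 : p = (p.1, 0) := Prod.ext rfl hp
          rw [h5]
          exact h2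
        · exact h0 p hp
      rw [h1]
      exact one_mem D
    push Not at h0
    obtain ⟨p, hp2, hp⟩ := h0
    obtain ⟨d, hd⟩ := exists_isC (M := M) (p := (p.1, 0)) (q := p) rfl
    have hdD := hD p hp2 d hd
    have hp0 : ((p.1, 0) : Pt k m) ≠ p := fun h => hp2 (congrArg Prod.snd h).symm
    have hvd : v * d ∈ V := mul_mem hv hd.1
    have hE : ∀ r, E M (v * d) r = E M v r + E M d r := fun r => E_mul M hv hd.1 r
    have e1 : E M (v * d) p = 0 := by
      rw [hE, hd.right hp0, zmod2_ne.1 hp]; rfl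
    have e3 : ∀ r : Pt k m, r.2 ≠ 0 → r ≠ p → E M (v * d) r = E M v r := fun r h1 h2 => by
      rw [hE, hd.zero (fun h3 => h1 (congrArg Prod.snd h3)) h2, add_zero]
    have hsub : (Finset.univ.filter fun r : Pt k m => r.2 ≠ 0 ∧ E M (v * d) r ≠ 0) ⊂
        Finset.univ.filter fun r : Pt k m => r.2 ≠ 0 ∧ E M v r ≠ 0 := by
      rw [Finset.ssubset_iff_of_subset]
      · exact ⟨p, by simpa using ⟨hp2, hp⟩, by simp [e1]⟩
      · intro r hr
        rw [Finset.mem_filter] at hr ⊢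
        refine ⟨Finset.mem_univ _, hr.2.1, ?_⟩
        have h1 : r ≠ p := by rintro rfl; exact hr.2.2 e1
        rw [← e3 r hr.2.1 h1]
        exact hr.2.2
    have hlt := Finset.card_lt_card hsub
    rw [hn] at hlt
    have h3 : v * d ∈ D := ih _ hlt hvd rfl
    have h4 := mul_mem h3 (inv_mem hdD)
    rwa [mul_inv_cancel_right] at h4

variable {M : SymK (S : Subgroup G) P V ⊥ k m} (hA : Amb (S : Subgroup G) P V)
include hA

/-- an element of `S` which centralises the pair `{p, q}` fixes it as a set -/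
theorem fix_pair {t : G} (ht : t ∈ (S : Subgroup G)) {π : Equiv.Perm (Pt k m)} (hπ : Mv M t π)
    {p q : Pt k m} (hpq : p ≠ q) {d : G} (hd : IsC M d p q) (hc : t * d = d * t) : π p = p ∨ π p = q := by
  have h1 := hd.conj hA (hA.TH ht) hπ
  have h2 : t * d * t⁻¹ = d := by rw [hc, mul_inv_cancel_right]
  rw [h2] at h1
  by_contra hcon
  push Not at hcon
  have h3 : E M d (π p) = 1 := h1.left (fun h => hpq (π.injective h))
  rw [hd.zero hcon.1 hcon.2] at h3
  exact zero_ne_one h3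

/-- the commutator of `{0, p}` with `t` -/
theorem c_pair (hm : 1 ≤ m) {t : G} (ht : t ∈ (S : Subgroup G)) {π : Equiv.Perm (Pt k m)} (hπ : Mv M t π)
    {p q : Pt k m} (hsw : Sw M p q) {d e : G} (hd : IsC M d p q) (he : IsC M e (p.1, 0) p)
    (hc : t * d = d * t) : c e t = 1 ∨ c e t = d := by
  have htP := hA.TH ht
  have h0 : ((p.1, 0) : Pt k m).2 = 0 := rfl
  have h1 := fix_pair hA ht hπ hsw.1 hd hc
  have h2 : (π p).1 = p.1 := by
    rcases h1 with h1 | h1
    · rw [h1]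
    · rw [h1, hsw.2.1]
  have h3 : π (p.1, 0) = (p.1, 0) := by
    refine Prod.ext ?_ ?_
    · have h4 := hπ.fst hA hm htP (p := (p.1, 0)) (q := p) rfl
      rw [h4, h2]
    · exact (hπ.snd hA hm ht).2 h0
  have h4 := he.conj hA htP hπ
  rw [h3] at h4
  have hi : e⁻¹ = e := by
    have := hA.sq e he.1
    rw [pow_two] at this
    exact inv_eq_of_mul_eq_one_left this
  have e1 : c e t = e * (t * e * t⁻¹) := by
    rw [c_def]
    conv_lhs => rw [hi]
    group
  rw [e1]
  rcases h1 with h1 | h1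
  · left
    rw [h1] at h4
    rw [h4.eq he, ← pow_two, hA.sq e he.1]
  · right
    rw [h1] at h4
    have hm2 : t * e * t⁻¹ ∈ V := hA.conj_mem htP he.1
    refine inj M (mul_mem he.1 hm2) hd.1 fun r => ?_
    rw [E_mul M he.1 hm2, he.2, h4.2, hd.2]
    have h5 : ∀ a b c : ZMod 2, (a + b) + (a + c) = b + c := by decide
    exact h5 _ _ _

omit [Finite G] hA in
theorem c_one_left (t : G) : c 1 t = 1 := by rw [c_def]; group

omit hA in
/-- **`TL` for even-subset modules** -/
theorem tl_sym (M : SymKM (S : Subgroup G) P (zl (S : Subgroup G) P) ⊥ k m)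
    (hA : Amb (S : Subgroup G) P (zl (S : Subgroup G) P)) (hm : 1 ≤ m) (hP : IsParS (S : Subgroup G) P)
    {A : Subgroup G} (hmin : NOThreeL.NF.MinOffM (zl (S : Subgroup G) P) (S : Subgroup G) A) :
    TL (S : Subgroup G) P A := by
  obtain ⟨⟨p, q, had⟩, -⟩ := exists_ad M hA hm hmin
  set N := M.toSymK with hN
  have hSP := hA.TH
  have hmem : ∀ r, r ∈ NOThreeL.NF.pts (zl (S : Subgroup G) P) (S : Subgroup G) A ↔
      ∃ a b d, Sw N a b ∧ IsC N d a b ∧ r = zpowers d := fun r => had.mem_pts hA hm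
  have hsib : ∀ r : Pt k m, ∃ r', r.2 ≠ 0 → Sw N r r' := by
    intro r
    by_cases hr : r.2 = 0
    · exact ⟨r, fun h => absurd hr h⟩
    · obtain ⟨r', h⟩ := exists_sw hA hm had.sw hr
      exact ⟨r', fun _ => h⟩
  choose sb hsb using hsib
  have hd : ∀ r : {r : Pt k m // r.2 ≠ 0}, ∃ d, IsC N d r.1 (sb r.1) := fun r => exists_isC (hsb r.1 r.2).2.1
  choose d hd using hd
  have he : ∀ r : {r : Pt k m // r.2 ≠ 0}, ∃ e, IsC N e (r.1.1, 0) r.1 := fun r => exists_isC rfl
  choose e he using he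
  have hcd : ∀ t, CP (S : Subgroup G) P A t → ∀ r, t * d r = d r * t := fun t ht r =>
    ht _ ((hmem _).2 ⟨r.1, sb r.1, d r, hsb r.1 r.2, hd r, rfl⟩) _ (mem_zpowers _)
  have hsq : ∀ v ∈ zl (S : Subgroup G) P, v * v = 1 := fun v hv => sq_one hA hv
  refine ⟨⟨{r : Pt k m // r.2 ≠ 0}, fun r => zpowers (d r), fun r => zpowers (e r), ?_, ?_, ?_, ?_, ?_⟩, ?_⟩
  · exact fun r => (hmem _).2 ⟨r.1, sb r.1, d r, hsb r.1 r.2, hd r, rfl⟩
  · intro r
    rw [zpowers_le]; exact (he r).1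
  · intro v hv
    refine mem_of_pairs N hv fun r hr d' hd' => ?_
    rw [hd'.eq (he ⟨r, hr⟩)]
    exact (le_iSup (fun r => zpowers (e r)) ⟨r, hr⟩) (mem_zpowers _)
  · intro t ht htc r v hv
    obtain ⟨π, hπ, -⟩ := exists_mv (M := N) (hSP ht)
    rcases (mem_zpowers_iff (hsq _ (he r).1)).1 hv with h1 | h1
    · rw [h1, c_one_left]; exact one_mem _
    · rw [h1]
      rcases c_pair hA hm ht hπ (hsb r.1 r.2) (hd r) (he r) (hcd t htc r) with h2 | h2
      · rw [h2]; exact one_mem _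
      · rw [h2]; exact mem_zpowers _
  · intro t ht htc r v hv hne y hy
    obtain ⟨π, hπ, -⟩ := exists_mv (M := N) (hSP ht)
    rcases (mem_zpowers_iff (hsq _ (he r).1)).1 hv with h1 | h1
    · rw [h1, c_one_left] at hne
      exact absurd rfl hne
    · rw [h1] at hne
      have h2 := (c_pair hA hm ht hπ (hsb r.1 r.2) (hd r) (he r) (hcd t htc r)).resolve_left hne
      rcases (mem_zpowers_iff (hsq _ (hd r).1)).1 hy with h3 | h3
      · exact ⟨1, one_mem _, by rw [h3, c_one_left]⟩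
      · exact ⟨e r, mem_zpowers _, by rw [h3, h2]⟩
  · have hp2 := had.sw.nz hA hm
    have hq2 := had.sw.symm.nz hA hm
    have hpq := had.sw.1
    have hpq1 := had.sw.2.1
    have hp0 : ((p.1, 0) : Pt k m) ≠ p := fun h => hp2 (congrArg Prod.snd h).symm
    have hq0 : q ≠ ((p.1, 0) : Pt k m) := fun h => hq2 (congrArg Prod.snd h)
    obtain ⟨g, hg, hgπ⟩ := exists_swap (M := N) (p := (p.1, 0)) (q := p) rfl
    refine ⟨g, hg, ?_, ?_, ?_⟩
    · obtain ⟨a, ha, haπ⟩ := had.ex
      have h1 := (hgπ.inv hA hg).conj hA (inv_mem hg) haπ (hSP (had.le ha))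
      have e1 : (Equiv.swap (p.1, 0) p)⁻¹ * Equiv.swap p q * (Equiv.swap (p.1, 0) p)⁻¹⁻¹ =
          Equiv.swap ((q.1, 0) : Pt k m) q := by
        rw [← Equiv.swap_apply_apply, Equiv.swap_inv, Equiv.swap_apply_right,
          Equiv.swap_apply_of_ne_of_ne hq0 hpq.symm, hpq1]
      rw [e1] at h1
      have h2 : g⁻¹ * a * g⁻¹⁻¹ ∈ (S : Subgroup G) ⊔ cj g⁻¹ A := by
        refine (le_sup_right : cj g⁻¹ A ≤ _) ?_
        rw [mem_cj]
        have e2 : g⁻¹⁻¹ * (g⁻¹ * a * g⁻¹⁻¹) * g⁻¹ = a := by group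
        rwa [e2]
      have h3 : cj g⁻¹ A ≤ P := by
        rintro _ ⟨b, hb, rfl⟩
        exact mul_mem (mul_mem (inv_mem hg) (hSP (had.le hb))) (inv_mem (inv_mem hg))
      have h4 := NOThreeL.Low.le_of_swap N hA hm (fun p q hp hq => trans_pts S hA hm hp hq) hP
        le_sup_left (sup_le hSP h3) h2 hq2 h1
      have h5 : cj g P = P := cj_eq_of_mem_normalizer (le_normalizer hg)
      have h6 := cj_mono g h4
      have h7 : cj g ((S : Subgroup G) ⊔ cj g⁻¹ A) = cj g (S : Subgroup G) ⊔ cj g (cj g⁻¹ A) := map_sup _ _ _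
      rw [h5, h7, cj_cj_inv] at h6
      exact h6
    · intro r hrr hnc
      obtain ⟨a, b, d', hsw, hd', rfl⟩ := (hmem r).1 hrr
      -- `{a, b} = {p, q}`
      have key : ∀ a b : Pt k m, Sw N a b → IsC N d' a b → a = p →
          IsC N (g * d' * g⁻¹) (p.1, 0) q := by
        rintro a b hsw hd' rfl
        have hb : b = q := hsw.uniq hA S.isPGroup' hm had.sw
        subst hb
        have h1 := hd'.conj hA hg hgπ
        rwa [Equiv.swap_apply_right, Equiv.swap_apply_of_ne_of_ne hq0 hpq.symm] at h1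
      have hcase : IsC N (g * d' * g⁻¹) (p.1, 0) q := by
        by_cases ha : a = p
        · exact key a b hsw hd' ha
        by_cases hb : b = p
        · exact key b a hsw.symm hd'.symm hb
        exfalso
        apply hnc
        have ha0 : a ≠ ((p.1, 0) : Pt k m) := fun h => hsw.nz hA hm (congrArg Prod.snd h)
        have hb0 : b ≠ ((p.1, 0) : Pt k m) := fun h => hsw.symm.nz hA hm (congrArg Prod.snd h)
        have h1 := hd'.conj hA hg hgπ
        rw [Equiv.swap_apply_of_ne_of_ne ha0 ha, Equiv.swap_apply_of_ne_of_ne hb0 hb] at h1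
        have haq : a ≠ q := by
          rintro rfl
          exact hb (hsw.uniq hA S.isPGroup' hm had.sw.symm)
        have hbq : b ≠ q := by
          rintro rfl
          exact ha (hsw.symm.uniq hA S.isPGroup' hm had.sw.symm)
        rw [cj_zpowers, h1.eq hd', zpowers_le, mem_centralizer_iff]
        intro x hx
        rcases had.all x hx with h2 | h2
        · exact (mem_centralizer_iff.1 h2 d' hd'.1).symm
        · have h3 := comm_of_eq hA (hSP (had.le hx)) h2 hd'.1
            (by rw [hd'.zero (Ne.symm ha) (Ne.symm hb), hd'.zero haq.symm hbq.symm])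
          rwa [mul_inv_eq_iff_eq_mul] at h3
      intro v hv
      refine mem_of_pairs N hv fun r hr e' he' => ?_
      obtain ⟨s, hs, π, hπ, h1⟩ := trans_pts S hA hm hq2 hr
      have h2 := hcase.conj hA (hSP hs) hπ
      have h3 : π (p.1, 0) = (r.1, 0) := by
        refine Prod.ext ?_ ((hπ.snd hA hm hs).2 rfl)
        have h4 := hπ.fst hA hm (hSP hs) (p := (p.1, 0)) (q := q) hpq1
        rw [h4, h1]
      rw [h1, h3] at h2
      have h5 : cj s (cj g (zpowers d') ⊔ ⁅zl (S : Subgroup G) P, A⁆) ≤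
          ⨆ s : (S : Subgroup G), cj (s : G) (cj g (zpowers d') ⊔ ⁅zl (S : Subgroup G) P, A⁆) :=
        le_iSup (fun s : (S : Subgroup G) => cj (s : G) (cj g (zpowers d') ⊔ ⁅zl (S : Subgroup G) P, A⁆)) ⟨s, hs⟩
      apply h5
      rw [mem_cj]
      refine (le_sup_left : cj g (zpowers d') ≤ _) ?_
      rw [cj_zpowers]
      have e3 : s⁻¹ * e' * s = g * d' * g⁻¹ := by
        rw [he'.eq h2]; group
      rw [e3]
      exact mem_zpowers _
    · intro x hx hxc hxr
      obtain ⟨d₀, hd₀⟩ := exists_isC (M := N) hpq1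
      rw [had.comm_eq hA hm hd₀, mem_zpowers_iff (hsq _ hd₀.1)] at hxr
      rcases hxr with h1 | h1
      · have h2 : x = g⁻¹ * (g * x * g⁻¹) * g := by group
        rw [h2, h1]; group
      · exfalso
        -- `x = {0, q}`
        have h2 := hd₀.conj hA (inv_mem hg) (hgπ.inv hA hg)
        have h3 : g⁻¹ * d₀ * g⁻¹⁻¹ = x := by rw [← h1]; group
        rw [h3, Equiv.swap_inv, Equiv.swap_apply_right, Equiv.swap_apply_of_ne_of_ne hq0 hpq.symm] at h2
        obtain ⟨a, ha, haπ⟩ := had.ex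
        have h4 : a ∈ centralizer ({x} : Set G) := by
          have h5 := hxc 1 (one_mem _)
          rw [cj_one] at h5
          exact h5 ha
        have h6 := eq_of_comm haπ hx (by rw [mem_centralizer_singleton_iff.1 h4, mul_inv_cancel_right])
        rw [h2.zero hp0.symm hpq, h2.right hq0.symm] at h6
        exact zero_ne_one h6

end Cfsg.Agent.Omega.NO3S.ActT

end

section


/-!
# (S5) of GammaFF (#22081, #23010): the type lemma TL

`L = zl S P`, `B` a minimal offender in `S` on `L` (one full root group / one transposition).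

* `tl` : some `w ∈ L`, not centralised by `B`, satisfies `[w, s] ∈ [L, B]` for all `s ∈ S` which centralise `[L, B]`.
-/

set_option autoImplicit false
set_option linter.unusedSectionVars false

namespace Cfsg.Agent.Omega.NO3S.SFive

open Subgroup Cfsg Cfsg.Agent.ZN Cfsg.Agent.ZN.ChoiceBase
open Cfsg.Agent.Omega.MinPar
open Cfsg.Agent.Omega.FFThm (ConclM NatK NatKM SymK SymKM ActsSL)
open Cfsg.Agent.Omega.Half (Amb)
open Cfsg.Agent.Omega.Half.NatA (fac Mv Mv.unique)
open Cfsg.Agent.Omega.NOThreeL.NF (MinOffM)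
open Cfsg.Agent.Omega.NOThreeL.NF.NatR
open Cfsg.Agent.Omega.NO1.NSix (em em_mem e_em_self e_em_ne ph e_conj ph_add)
open Cfsg.Agent.Omega.NatPair (ext2)
open Cfsg.Agent.Omega.NO3S.ActT (decomp)
open Cfsg.Agent.Lib.SL2Mat
open scoped commutatorElement

universe u

section nat

variable {G : Type u} [Group G] {F : Type} [Field F] {S P W : Subgroup G} {k : ℕ} {M : NatKM F S P W ⊥ k}

/-- an element of `S` which centralises one line fixes the summand and acts on it as an upper unitriangular matrix -/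
theorem exists_up_one [Finite F] [CharP F 2] (hA : Amb S P W) (hS : IsPGroup 2 S) {t : G} (ht : t ∈ S) {j : Fin k}
    (hc : ∀ y ∈ ln M {j}, t * y = y * t) :
    ∃ (σ : Equiv.Perm (Fin k)) (a : F), σ j = j ∧ Mv M.toNatK t σ ∧
      ∀ v ∈ W, M.e (t * v * t⁻¹) j = ![M.e v j 0 + a * M.e v j 1, M.e v j 1] := by
  have htP : t ∈ P := hA.TH ht
  have hcv : ∀ g ∈ P, ∀ v ∈ W, g * v * g⁻¹ ∈ W := fun g hg v hv => hA.conj_mem hg hv
  have hfix : ∀ y ∈ ln M {j}, t * y * t⁻¹ = y := fun y hy => by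
    rw [hc y hy, mul_inv_cancel_right]
  obtain ⟨σ, hσ⟩ := M.perm t htP
  have hj : σ j = j := by
    by_contra hne
    obtain ⟨y, hy, hy0⟩ := exists_ln (M := M) j 1
    have h1 := (hσ y hy.1 j).1
    rw [hfix y hy] at h1
    have h2 := h1 (hy.2.2 _ hne)
    rw [h2] at hy0
    exact zero_ne_one hy0
  obtain ⟨τ, hτ⟩ := NO1.NSix.exists_semi hA (M := M.toNatK) htP (show Mv M.toNatK t σ from hσ) j
  rw [hj] at hτ
  have hph : ∀ v ∈ W, M.e (t * v * t⁻¹) j = ph M.toNatK t j j (M.e v j) := by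
    intro v hv
    have h1 := e_conj hA (M := M.toNatK) htP (show Mv M.toNatK t σ from hσ) hv j
    rwa [hj] at h1
  -- the line
  have hl : ∀ x : F, ph M.toNatK t j j ![x, 0] = ![x, 0] := by
    intro x
    have h1 := em_mem M.toNatK j ![x, 0]
    have h2 : em M.toNatK j ![x, 0] ∈ ln M {j} := by
      refine ⟨h1, fun l => ?_, fun l hl => e_em_ne M.toNatK hl _⟩
      by_cases hl : l = j
      · subst hl
        have h3 := e_em_self M.toNatK l ![x, 0]
        exact (congrFun h3 1).trans rfl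
      · have h3 := e_em_ne M.toNatK hl ![x, 0]
        exact (congrFun h3 1).trans rfl
    have h3 := hph _ h1
    rw [hfix _ h2] at h3
    have h4 := e_em_self M.toNatK j ![x, 0]
    rw [h4] at h3
    exact h3.symm
  have hτ1 : ∀ x : F, τ x = x := by
    intro x
    have h1 := hτ x ![1, 0]
    have h2 : x • (![1, 0] : Fin 2 → F) = ![x, 0] := by apply ext2 <;> simp
    rw [h2, hl, hl] at h1
    have h3 := congrFun h1 0
    simp at h3
    exact h3.symm
  set a := ph M.toNatK t j j ![0, 1] 0 with ha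
  set μ := ph M.toNatK t j j ![0, 1] 1 with hμ
  have hmat : ∀ x : Fin 2 → F, ph M.toNatK t j j x = ![x 0 + a * x 1, μ * x 1] := by
    intro x
    conv_lhs => rw [decomp x]
    rw [ph_add hA htP, hτ, hτ, hτ1, hτ1, hl]
    refine ext2 ?_ ?_
    · simp only [Pi.add_apply, Pi.smul_apply, Matrix.cons_val_zero, smul_eq_mul, mul_one]
      rw [← ha, mul_comm (x 1)]
    · simp only [Pi.add_apply, Pi.smul_apply, Matrix.cons_val_one, Matrix.cons_val_zero, smul_eq_mul, mul_zero,
        zero_add]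
      rw [← hμ, mul_comm (x 1)]
  have hlam : ∀ v ∈ W, M.e (t * v * t⁻¹) j 1 = μ * M.e v j 1 := by
    intro v hv
    rw [hph v hv, hmat]
    rfl
  have hpow : ∀ n : ℕ, ∀ v ∈ W, M.e (t ^ n * v * (t ^ n)⁻¹) j 1 = μ ^ n * M.e v j 1 := by
    intro n
    induction n with
    | zero => intro v _; simp
    | succ n ih =>
      intro v hv
      have h1 := hlam _ (hcv (t ^ n) (P.pow_mem htP n) v hv)
      have e1 : t * (t ^ n * v * (t ^ n)⁻¹) * t⁻¹ = t ^ (n + 1) * v * (t ^ (n + 1))⁻¹ := by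
        rw [pow_succ' t n]; group
      rw [e1, ih v hv] at h1
      rw [h1, pow_succ', mul_assoc]
  obtain ⟨n, hn⟩ := hS ⟨t, ht⟩
  have hn' : t ^ (2 ^ n) = 1 := congrArg Subtype.val hn
  obtain ⟨u, hu, hue, -⟩ := exists_pt (M := M) j ![0, 1]
  have h1 := hpow (2 ^ n) u hu
  rw [hn', one_mul, inv_one, mul_one, hue] at h1
  have h2 : μ ^ 2 ^ n = 1 := by simpa using h1.symm
  have hμ1 : μ = 1 := by
    have h3 : (μ - 1) ^ 2 ^ n = 0 := by
      rw [sub_pow_char_pow, h2, one_pow, sub_self]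
    exact sub_eq_zero.1 (pow_eq_zero_iff (pow_ne_zero n two_ne_zero) |>.1 h3)
  refine ⟨σ, a, hj, hσ, fun v hv => ?_⟩
  rw [hph v hv, hmat, hμ1, one_mul]

/-- **TL, natural modules** -/
theorem tl_nat [Finite G] [Finite F] [CharP F 2] {S P B : Subgroup G} {k : ℕ} (M : NatKM F S P (zl S P) ⊥ k)
    (hA : Amb S P (zl S P)) (hS : IsPGroup 2 S) (hmin : MinOffM (zl S P) S B) :
    ∃ w ∈ zl S P, w ∉ centralizer (B : Set G) ∧ ∀ s ∈ S, s ∈ centralizer ((⁅zl S P, B⁆ : Subgroup G) : Set G) →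
      s * w * s⁻¹ * w⁻¹ ∈ (⁅zl S P, B⁆ : Subgroup G) := by
  have hPW := hA.HV
  have hSP := hA.TH
  obtain ⟨i, hr⟩ := Rt.of (M := M) hPW hSP hmin
  have hln := hr.comm_eq hPW hSP
  refine ⟨em M.toNatK i ![0, 1], em_mem _ _ _, fun hc => ?_, fun s hs hsc => ?_⟩
  · have h1 := hr.zero_of_cent (em_mem _ _ _) hc
    have h2 := congrFun (e_em_self M.toNatK i ![0, 1]) 1
    have h3 : (1 : F) = 0 := by simpa using h2.symm.trans h1
    exact one_ne_zero h3
  · rw [hln] at hsc ⊢
    have hc : ∀ y ∈ ln M {i}, s * y = y * s := fun y hy => (mem_centralizer_iff.1 hsc y hy).symm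
    obtain ⟨σ, a, hσi, hσ, hup⟩ := exists_up_one hA hS hs hc
    set w := em M.toNatK i ![0, 1] with hw
    have hwW : w ∈ zl S P := em_mem _ _ _
    have hwe : M.e w i = ![0, 1] := e_em_self M.toNatK i ![0, 1]
    have hsw : s * w * s⁻¹ ∈ zl S P := hA.conj_mem (hSP hs) hwW
    have hadd : ∀ l, M.e (s * w * s⁻¹ * w⁻¹) l = M.e (s * w * s⁻¹) l - M.e w l := by
      intro l
      rw [M.mul _ hsw _ (inv_mem hwW), Pi.add_apply, e_inv hwW, Pi.neg_apply, sub_eq_add_neg]
    have hz : ∀ l, l ≠ i → M.e (s * w * s⁻¹ * w⁻¹) l = 0 := by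
      intro l hl
      have h1 : M.e w l = 0 := e_em_ne M.toNatK hl _
      have h2 : M.e (s * w * s⁻¹) l = 0 := by
        have h3 := (hσ w hwW (σ.symm l)).2 (e_em_ne M.toNatK (fun h4 => hl (by
          rw [← hσi, ← h4, Equiv.apply_symm_apply])) _)
        rwa [Equiv.apply_symm_apply] at h3
      rw [hadd, h1, h2, sub_zero]
    refine ⟨mul_mem hsw (inv_mem hwW), fun l => ?_, fun l hl => hz l hl⟩
    by_cases hl : l = i
    · subst hl
      rw [hadd, hup w hwW, hwe]
      simp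
    · rw [hz l hl]; rfl

end nat

section sym

open Cfsg.Agent.Omega.Half.SymA
open Cfsg.Agent.Omega.NOThreeL.NF.SymRP
open Cfsg.Agent.Omega.NO3S.ActT (c_pair)
open Cfsg.Agent.Omega.NOne.NearFF (c c_def)

variable {G : Type u} [Group G] [Finite G] {S : Sylow 2 G} {P : Subgroup G} {k m : ℕ}

/-- **TL, even-subset modules** -/
theorem tl_sym (M : SymKM (S : Subgroup G) P (zl (S : Subgroup G) P) ⊥ k m)
    (hA : Amb (S : Subgroup G) P (zl (S : Subgroup G) P)) (hm : 1 ≤ m)
    {B : Subgroup G} (hmin : MinOffM (zl (S : Subgroup G) P) (S : Subgroup G) B) :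
    ∃ w ∈ zl (S : Subgroup G) P, w ∉ centralizer (B : Set G) ∧ ∀ s ∈ (S : Subgroup G),
      s ∈ centralizer ((⁅zl (S : Subgroup G) P, B⁆ : Subgroup G) : Set G) →
        s * w * s⁻¹ * w⁻¹ ∈ (⁅zl (S : Subgroup G) P, B⁆ : Subgroup G) := by
  obtain ⟨⟨p, q, had⟩, -⟩ := exists_ad M hA hm hmin
  set N := M.toSymK with hN
  obtain ⟨d, hd⟩ := exists_isC (M := N) had.sw.2.1
  obtain ⟨e, he⟩ := exists_isC (M := N) (p := (p.1, 0)) (q := p) rfl
  have hp2 := had.sw.nz hA hm
  have hq2 := had.sw.symm.nz hA hm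
  have hp0 : ((p.1, 0) : Pt k m) ≠ p := fun h => hp2 (congrArg Prod.snd h).symm
  have hq0 : q ≠ ((p.1, 0) : Pt k m) := fun h => hq2 (congrArg Prod.snd h)
  rw [had.comm_eq hA hm hd]
  refine ⟨e, he.1, fun hc => ?_, fun s hs hsc => ?_⟩
  · obtain ⟨b, hb, hπ⟩ := had.ex
    have h1 : b * e * b⁻¹ = e := by
      rw [mem_centralizer_iff.1 hc b hb, mul_inv_cancel_right]
    have h2 : E N e p = E N e q := eq_of_comm hπ he.1 h1
    rw [he.right hp0, he.zero hq0 had.sw.1.symm] at h2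
    exact one_ne_zero h2
  · have hc : s * d = d * s := (mem_centralizer_iff.1 hsc d (mem_zpowers d)).symm
    obtain ⟨π, hπ, -⟩ := exists_mv (M := N) (hA.TH hs)
    have e1 : s * e * s⁻¹ * e⁻¹ = (c e s)⁻¹ := by rw [c_def]; group
    rw [e1]
    refine inv_mem ?_
    rcases c_pair hA hm hs hπ had.sw hd he hc with h2 | h2
    · rw [h2]; exact one_mem _
    · rw [h2]; exact mem_zpowers d

end sym

section main

variable {G : Type u} [Group G] [Finite G] {S : Sylow 2 G} {P : Subgroup G}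

/-- **TL** (#23010): some `w ∈ L - C(B)` satisfies `[w, C_S([L, B])] ≤ [L, B]`. -/
theorem tl (hc : IsCharacteristicTwoType G) (hP : IsParS (S : Subgroup G) P)
    (hcv : FrameFF.cv (S : Subgroup G) P = ⊥) (hcc : ConclM (S : Subgroup G) P) {B : Subgroup G}
    (hB : MinOffM (zl (S : Subgroup G) P) (S : Subgroup G) B) :
    ∃ w ∈ zl (S : Subgroup G) P, w ∉ centralizer (B : Set G) ∧ ∀ s ∈ (S : Subgroup G),
      s ∈ centralizer ((⁅zl (S : Subgroup G) P, B⁆ : Subgroup G) : Set G) →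
        s * w * s⁻¹ * w⁻¹ ∈ (⁅zl (S : Subgroup G) P, B⁆ : Subgroup G) := by
  have hA := Omega.Half.amb_of_loc hc S hP.isLoc
  rcases hcc with ⟨K, _, _, _, k, hk, ⟨M⟩⟩ | ⟨k, m, hk, hm, ⟨M⟩⟩
  · rw [hcv] at M
    exact tl_nat M hA S.isPGroup' hB
  · rw [hcv] at M
    exact tl_sym M hA (by omega) hB

end main

end Cfsg.Agent.Omega.NO3S.SFive

end
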